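import Cfsg.Agent.Lib.DCE.Ly.Cov.Bound
import Cfsg.Agent.Lib.DCE.Ly.Model.Syl3
import Cfsg.Agent.Lib.DCE.Ly.Model.Syl2
import Cfsg.Agent.Lib.DCE.Ly.Model.Ord
import Cfsg.Agent.Lib.DCE.MatV
import Cfsg.Agent.Lib.DCE.Exact
import Cfsg.Agent.Lib.CosetCert.Chain2

/-! The order of the Lyons group and its simplicity. -/

namespace Cfsg.Agent.Lib.DCE.Ly.Final

open Cfsg.Agent.Lib.TC.Core Cfsg.Agent.Lib.TC.Pres Cfsg.Agent.Lib.DCE.MatP Cfsg.Agent.Lib.DCE
  Cfsg.Agent.Lib.DCE.Ly.Exp Cfsg.Agent.Lib.DCE.Ly.Setup Cfsg.Agent.Lib.DCE.Ly.Rules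
  Cfsg.Agent.Lib.DCE.Ly.Model.Rho Cfsg.Agent.Lib.DCE.Ly.Cov.Base Cfsg.Agent.Lib.DCE.Ly.Cov.Bound

set_option maxRecDepth 100000

theorem card_HH_dvd : Nat.card HH ∣ 5859000000 := by
  have h := Subgroup.index_ker iota
  have h2 : Nat.card HH = iota.ker.index := h.symm
  rw [h2, ← card_Q]
  exact Subgroup.index_dvd_card _

theorem card_G_ne : Nat.card Γ ≠ 0 := by
  have h := Subgroup.card_mul_index HH
  have h1 : Nat.card HH ≠ 0 := by
    intro h0
    have := card_HH_dvd
    rw [h0] at this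
    simp at this
  rw [← h]
  exact mul_ne_zero h1 bound.1

instance finiteG : Finite Γ := Nat.finite_of_card_ne_zero card_G_ne

/-! ### Elements of the orders of the primes -/

theorem order_of_word {q : ℕ} (hq : q.Prime) {w G : List Nat} (hchk : chkWord w G = true)
    (hgood : goodT 5 111 [G] = true) (hpow : checkW 5 111 [G] (List.replicate q 0) = true)
    (i j : Fin 111) (hne : toM 5 111 G i j ≠ (1 : MT) i j) :
    orderOf (rho (elt w)) = q := by
  have : Fact q.Prime := ⟨hq⟩
  have hv := rho_elt_of_chk hchk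
  have h1 := prod_of_checkW 5 111 (by norm_num) (by norm_num) (by norm_num) [G] hgood _ hpow
  rw [List.map_replicate, List.prod_replicate] at h1
  have h2 : lettM 5 111 [G] 0 = toM 5 111 G := rfl
  rw [h2, ← hv] at h1
  apply orderOf_eq_prime
  · apply Units.ext
    rw [Units.val_pow_eq_pow_val, h1]
    rfl
  · intro h
    apply hne
    rw [← hv, h]
    rfl

theorem dvd_of_order {q : ℕ} {x : Γ} (h : orderOf (rho x) = q) : q ∣ Nat.card Γ := by
  rw [← h]
  exact (orderOf_map_dvd rho _).trans (orderOf_dvd_natCard _)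

theorem ord_u : orderOf (rho (elt Model.Ord.w_u)) = 67 :=
  order_of_word (by norm_num) Model.Ord.chk_u Model.Ord.good_u Model.Ord.pow_u _ _ Model.Ord.ne_u

theorem ord_v : orderOf (rho (elt Model.Ord.w_v)) = 67 :=
  order_of_word (by norm_num) Model.Ord.chk_v Model.Ord.good_v Model.Ord.pow_v _ _ Model.Ord.ne_v

theorem ord_x37 : orderOf (rho (elt Model.Ord.w_x37)) = 37 :=
  order_of_word (by norm_num) Model.Ord.chk_x37 Model.Ord.good_x37 Model.Ord.pow_x37 _ _ Model.Ord.ne_x37

theorem ord_x11 : orderOf (rho (elt Model.Ord.w_x11)) = 11 :=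
  order_of_word (by norm_num) Model.Ord.chk_x11 Model.Ord.good_x11 Model.Ord.pow_x11 _ _ Model.Ord.ne_x11

theorem dvd3 : 2187 ∣ Nat.card Γ :=
  dvd_of_orbit (p := 5) (d := 111) (Gs := Model.Syl3.Gs) (n := 3) (vs := Model.Syl3.vs) (pi := Model.Syl3.pi)
    (m := 2187) (by norm_num) (by norm_num) rho (fun g => elt (Model.Syl3.words.getD g [])) Model.Syl3.hgoodG
    (by decide +kernel) (fun g hg => rho_elt_of_chk (Model.Syl3.hchk g hg)) 612 (by norm_num)
    Model.Syl3.pr Model.Syl3.gn Model.Syl3.dp Model.Syl3.hP Model.Syl3.hO Model.Syl3.hT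

theorem dvd2 : 256 ∣ Nat.card Γ :=
  dvd_of_orbit (p := 5) (d := 111) (Gs := Model.Syl2.Gs) (n := 3) (vs := Model.Syl2.vs) (pi := Model.Syl2.pi)
    (m := 256) (by norm_num) (by norm_num) rho (fun g => elt (Model.Syl2.words.getD g [])) Model.Syl2.hgoodG
    (by decide +kernel) (fun g hg => rho_elt_of_chk (Model.Syl2.hchk g hg)) 54 (by norm_num)
    Model.Syl2.pr Model.Syl2.gn Model.Syl2.dp Model.Syl2.hP Model.Syl2.hO Model.Syl2.hT

theorem dvdM : 15267149568 ∣ Nat.card Γ := by
  have h1 : 256 * 2187 ∣ Nat.card Γ := Nat.Coprime.mul_dvd_of_dvd_of_dvd (by norm_num) dvd2 dvd3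
  have h2 : 256 * 2187 * 11 ∣ Nat.card Γ :=
    Nat.Coprime.mul_dvd_of_dvd_of_dvd (by norm_num) h1 (dvd_of_order ord_x11)
  have h3 : 256 * 2187 * 11 * 37 ∣ Nat.card Γ :=
    Nat.Coprime.mul_dvd_of_dvd_of_dvd (by norm_num) h2 (dvd_of_order ord_x37)
  have h4 : 256 * 2187 * 11 * 37 * 67 ∣ Nat.card Γ :=
    Nat.Coprime.mul_dvd_of_dvd_of_dvd (by norm_num) h3 (dvd_of_order ord_u)
  exact h4

/-! ### The index -/

theorem index_HH : HH.index = 8835156 := by
  have h := Subgroup.card_mul_index HH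
  obtain ⟨x, hx⟩ := card_HH_dvd
  have h1 : 15267149568 ∣ Nat.card HH * HH.index := h ▸ dvdM
  have h2 : 15267149568 ∣ 5859000000 * HH.index := by
    rw [hx]
    exact h1.trans ⟨x, by ring⟩
  have h3 : 8835156 ∣ 3390625 * HH.index := by
    have h4 : 1728 * 8835156 ∣ 1728 * (3390625 * HH.index) := by
      have e1 : (1728 * 8835156 : ℕ) = 15267149568 := by norm_num
      have e2 : 1728 * (3390625 * HH.index) = 5859000000 * HH.index := by ring
      rw [e1, e2]
      exact h2
    exact Nat.dvd_of_mul_dvd_mul_left (by norm_num) h4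
  have h4 : 8835156 ∣ HH.index := (Nat.Coprime.dvd_mul_left (by norm_num)).1 h3
  exact le_antisymm bound.2 (Nat.le_of_dvd (Nat.pos_of_ne_zero bound.1) h4)

theorem iota_inj : Function.Injective iota := by
  have := Cfsg.Agent.Lib.DCE.Ly.H.Tgt.simple_Q
  rcases IsSimpleGroup.eq_bot_or_eq_top_of_normal iota.ker (MonoidHom.normal_ker iota) with h | h
  · exact (MonoidHom.ker_eq_bot_iff _).1 h
  · exfalso
    have h1 : Nat.card HH = 1 := by
      have h2 := Subgroup.index_ker iota
      have h3 : Nat.card HH = iota.ker.index := h2.symm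
      rw [h3, h, Subgroup.index_top]
    have h2 := Subgroup.card_mul_index HH
    rw [h1, one_mul, index_HH] at h2
    have h3 := dvdM
    rw [← h2] at h3
    norm_num at h3

theorem card_HH : Nat.card HH = 5859000000 := by
  rw [← card_Q]
  exact (Nat.card_congr (MonoidHom.ofInjective iota_inj).toEquiv).symm

theorem card_G : Nat.card Γ = 51765179004000000 := by
  rw [← Subgroup.card_mul_index HH, card_HH, index_HH]

/-! ### The exact sizes of the double cosets -/

/-- The sizes. -/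
def nn : Fin 5 → ℕ := ![1, 19530, 968750, 2034375, 5812500]

theorem hfinS : ∀ j : Fin 5, ((S j.1).subgroupOf HH).index ≠ 0 := by
  intro j
  fin_cases j
  · exact idx0.1
  · exact idx1.1
  · exact idx2.1
  · exact idx3.1
  · exact idx4.1

theorem hnS : ∀ j : Fin 5, ((S j.1).subgroupOf HH).index ≤ nn j := by
  intro j
  fin_cases j
  · exact idx0.2
  · exact idx1.2
  · exact idx2.2
  · exact idx3.2
  · exact idx4.2

theorem exactS : (∀ j : Fin 5, ((S j.1).subgroupOf HH).index = nn j) ∧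
    Function.Bijective (sigmaMap HH (fun j : Fin 5 => W j.1) (fun j : Fin 5 => S j.1) (fun _ _ hs => hs)) :=
  sigma_exact HH (fun j : Fin 5 => W j.1) (fun j : Fin 5 => S j.1) (fun _ _ hs => hs) hcover nn hfinS hnS (by
    rw [index_HH, Fin.sum_univ_five]
    rfl)

/-! ### The subgroup is maximal -/

theorem hmax (K : Subgroup Γ) (hK : HH ≤ K) : K = HH ∨ K = ⊤ := by
  classical
  by_cases hz : zz ∈ K
  · right
    rw [eq_top_iff, ← hgen, Subgroup.closure_le]
    rintro x (hx | hx)
    · exact hK hx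
    · rw [Set.mem_singleton_iff] at hx
      rw [hx]
      exact hz
  · left
    have h1 := relIndex_eq_sum HH K hK (fun j : Fin 5 => W j.1) (fun j : Fin 5 => S j.1) (fun _ _ hs => hs)
      hfinS exactS.2
    rw [Fin.sum_univ_five] at h1
    simp only [exactS.1] at h1
    have h0 : W ((0 : Fin 5) : ℕ) ∈ K := K.one_mem
    have h11 : W ((1 : Fin 5) : ℕ) ∉ K := hz
    rw [if_pos h0, if_neg h11] at h1
    have hd : HH.relIndex K ∣ 8835156 := by
      rw [← index_HH]
      exact ⟨K.index, (Subgroup.relIndex_mul_index hK).symm⟩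
    have h5 : HH.relIndex K = 1 := by
      have e0 : nn 0 = 1 := rfl
      have e2 : nn 2 = 968750 := rfl
      have e3 : nn 3 = 2034375 := rfl
      have e4 : nn 4 = 5812500 := rfl
      rw [e0, e2, e3, e4] at h1
      by_cases h2 : W ((2 : Fin 5) : ℕ) ∈ K <;> by_cases h3 : W ((3 : Fin 5) : ℕ) ∈ K <;>
        by_cases h4 : W ((4 : Fin 5) : ℕ) ∈ K <;>
        simp only [if_pos, if_neg, h2, h3, h4, not_false_eq_true] at h1 <;>
        rw [h1] at hd ⊢ <;> revert hd <;> norm_num
    have h6 : K ≤ HH := Subgroup.relIndex_eq_one.1 h5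
    exact le_antisymm h6 hK

/-! ### The core of the subgroup is trivial -/

theorem hcore (M : Subgroup Γ) (hM : M.Normal) (hle : M ≤ HH) : M = ⊥ := by
  have := Cfsg.Agent.Lib.DCE.Ly.H.Tgt.simple_Q
  have hn : (M.comap iota).Normal := hM.comap iota
  rcases IsSimpleGroup.eq_bot_or_eq_top_of_normal _ hn with h | h
  · rw [eq_bot_iff]
    intro x hx
    obtain ⟨q, rfl⟩ := hle hx
    have h1 : q ∈ M.comap iota := hx
    rw [h, Subgroup.mem_bot] at h1
    rw [h1, map_one]
    exact Subgroup.one_mem _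
  · exfalso
    have hHM : HH ≤ M := by
      rintro _ ⟨q, rfl⟩
      have h1 : q ∈ M.comap iota := by
        rw [h]
        trivial
      exact h1
    have hHn : HH.Normal := by
      have h1 : M = HH := le_antisymm hle hHM
      rw [← h1]
      exact hM
    have h1 : (S ((1 : Fin 5) : ℕ)).subgroupOf HH = ⊤ := by
      rw [eq_top_iff]
      rintro ⟨x, hx⟩ _
      rw [Subgroup.mem_subgroupOf, mem_S]
      exact hHn.conj_mem x hx _
    have h2 := exactS.1 1
    rw [h1, Subgroup.index_top] at h2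
    have h3 : nn 1 = 19530 := rfl
    rw [h3] at h2
    norm_num at h2

/-! ### The representation is faithful -/

theorem order_not_mem (x : Γ) (hx : orderOf (rho x) = 67) : x ∉ HH := by
  intro hxH
  have h1 : orderOf x ∣ Nat.card HH := Subgroup.orderOf_dvd_natCard HH hxH
  have h2 : 67 ∣ orderOf x := by
    rw [← hx]
    exact orderOf_map_dvd rho _
  have h3 := h2.trans h1
  rw [card_HH] at h3
  norm_num at h3

theorem rho_inj : Function.Injective rho := by
  rw [← MonoidHom.ker_eq_bot_iff]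
  have hn : rho.ker.Normal := MonoidHom.normal_ker rho
  rcases hmax (HH ⊔ rho.ker) le_sup_left with h | h
  · exact hcore _ hn (by
      rw [← h]
      exact le_sup_right)
  · exfalso
    have hu : elt Model.Ord.w_u ∈ ((HH ⊔ rho.ker : Subgroup Γ) : Set Γ) := by
      rw [h]
      trivial
    rw [Subgroup.mul_normal] at hu
    obtain ⟨s, hs, m, hm, e⟩ := Set.mem_mul.1 hu
    have h1 : rho (elt Model.Ord.w_u) = rho s := by
      rw [← e, map_mul, MonoidHom.mem_ker.1 hm, mul_one]
    exact order_not_mem s (by rw [← h1]; exact ord_u) hs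

theorem pow_of_order {x : Γ} {q : ℕ} (h : orderOf (rho x) = q) : x ^ q = 1 := by
  apply rho_inj
  rw [map_pow, map_one, ← h]
  exact pow_orderOf_eq_one _

/-! ### Simplicity -/

theorem L_ten : L 10 = (L 4)⁻¹ := L_inv 4 (by norm_num)

theorem L_eight : L 8 = (L 2)⁻¹ := L_inv 2 (by norm_num)

theorem mul_uv : elt Model.Ord.w_u * elt Model.Ord.w_v = L 2 := by
  have h1 : elt Model.Ord.w_u = L 10 * L 8 * L 11 := by
    change prodA L [11, 8, 10] = _
    simp only [prodA_cons, prodA_nil, one_mul]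
  have h2 : elt Model.Ord.w_v = L 5 * L 2 * L 4 * L 2 := by
    change prodA L [2, 4, 2, 5] = _
    simp only [prodA_cons, prodA_nil, one_mul]
  rw [h1, h2, L_ten, L_eight, L11, L5]
  group

theorem EQ2_ne : EQ 2 ≠ 1 := by
  have h := Cfsg.Agent.Lib.TC.Iso.word_ne_one okQ [2] (by decide +kernel) 1 (by decide +kernel) (by decide +kernel)
  have h1 : prodA (KQ.E RQ) [2] = EQ 2 := by
    simp only [prodA_cons, prodA_nil, one_mul]
    rfl
  rwa [h1] at h

theorem hgen' (M : Subgroup Γ)
    (h : ∀ (x : Γ) (q : ℕ), (Nat.card HH).Coprime q → x ^ q = 1 → x ∈ M) : M = ⊤ := by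
  have := Cfsg.Agent.Lib.DCE.Ly.H.Tgt.simple_Q
  have hc : (Nat.card HH).Coprime 67 := by
    rw [card_HH]
    norm_num
  let N : Subgroup Γ := Subgroup.normalClosure ({elt Model.Ord.w_u, elt Model.Ord.w_v} : Set Γ)
  have hNn : N.Normal := Subgroup.normalClosure_normal
  have hu : elt Model.Ord.w_u ∈ N := Subgroup.subset_normalClosure (by simp)
  have hv : elt Model.Ord.w_v ∈ N := Subgroup.subset_normalClosure (by simp)
  have hNM : N ≤ M := by
    refine Subgroup.closure_le _ |>.2 ?_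
    intro x hx
    rw [Group.mem_conjugatesOfSet_iff] at hx
    obtain ⟨a, ha, hc2⟩ := hx
    obtain ⟨c, rfl⟩ := isConj_iff.1 hc2
    apply h _ 67 hc
    rw [conj_pow]
    have h1 : a ^ 67 = 1 := by
      rcases ha with rfl | rfl
      · exact pow_of_order ord_u
      · exact pow_of_order ord_v
    rw [h1]
    group
  have hL2 : L 2 ∈ N := by
    rw [← mul_uv]
    exact N.mul_mem hu hv
  have hcom : (N.comap iota).Normal := hNn.comap iota
  have hHN : HH ≤ N := by
    rcases IsSimpleGroup.eq_bot_or_eq_top_of_normal _ hcom with h1 | h1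
    · exfalso
      have h2 : EQ 2 ∈ N.comap iota := by
        change iota (EQ 2) ∈ N
        rw [iota_E 2 (by norm_num)]
        exact hL2
      rw [h1, Subgroup.mem_bot] at h2
      exact EQ2_ne h2
    · rintro _ ⟨q, rfl⟩
      have h2 : q ∈ N.comap iota := by
        rw [h1]
        trivial
      exact h2
  rcases hmax N hHN with h1 | h1
  · exfalso
    have h2 : elt Model.Ord.w_u ∈ HH := by
      rw [← h1]
      exact hu
    exact order_not_mem _ ord_u h2
  · rw [eq_top_iff, ← h1]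
    exact hNM

theorem simple_G : IsSimpleGroup Γ := by
  haveI : Nontrivial Γ := by
    rw [← Finite.one_lt_card_iff_nontrivial, card_G]
    norm_num
  exact Cfsg.Agent.Lib.CosetCert.isSimple_of_maximal_coprime' HH hmax hcore hgen'

/-! ### The subgroup on `a, b, c, d` -/

/-- The subgroup on the four letters. -/
noncomputable def TT : Subgroup Γ := Subgroup.closure {L 0, L 1, L 2, L 3}

theorem TT_le : TT ≤ HH := by
  rw [TT, Subgroup.closure_le]
  have h : ∀ c, c < 4 → L c ∈ HH := by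
    intro c hc
    have h1 : ev [c] = L c := by
      change prodA Lq [c] = _
      rw [prodA_cons, prodA_nil, one_mul]
      interval_cases c <;> rfl
    rw [← h1]
    apply ev_mem
    have hd2 : Nat.blt c 10 = true := by
      rw [Nat.blt_eq]
      omega
    simp [lt10, hd2]
  rintro x (rfl | rfl | rfl | rfl)
  · exact h 0 (by norm_num)
  · exact h 1 (by norm_num)
  · exact h 2 (by norm_num)
  · exact h 3 (by norm_num)

/-- The word of `e` in `a, b, c, d`. -/
def w_e : List Nat := [3,2,3,6,0,1,2,3,0,2,5,2,0,7,5,6,6]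

theorem w_e_eq : wEq [4] w_e = true := by decide +kernel

theorem Lq_mem : ∀ c, c < 10 → c ≠ 4 → c ≠ 9 → Lq c ∈ TT := by
  have h : ∀ c, c < 4 → Lq c ∈ TT := by
    intro c hc
    apply Subgroup.subset_closure
    interval_cases c
    · exact Or.inl rfl
    · exact Or.inr (Or.inl rfl)
    · exact Or.inr (Or.inr (Or.inl rfl))
    · exact Or.inr (Or.inr (Or.inr rfl))
  intro c hc h4 h9
  by_cases h1 : c < 4
  · exact h c h1
  · obtain ⟨d, hd, rfl⟩ : ∃ d, d < 4 ∧ c = d + 5 := ⟨c - 5, by omega, by omega⟩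
    have h2 : invQ d = d + 5 := by
      interval_cases d <;> rfl
    rw [← h2, Lq_inv d (by omega)]
    exact TT.inv_mem (h d hd)

theorem ev_mem_TT (w : List Nat) (hw : ∀ c ∈ w, c < 10 ∧ c ≠ 4 ∧ c ≠ 9) : ev w ∈ TT := by
  induction w with
  | nil => exact TT.one_mem
  | cons c w ih =>
    have h1 : ev (c :: w) = ev w * Lq c := by
      change prodA Lq (c :: w) = _
      rw [prodA_cons]
      rfl
    rw [h1]
    have h2 := hw c (by simp)
    exact TT.mul_mem (ih fun y hy => hw y (by simp [hy])) (Lq_mem c h2.1 h2.2.1 h2.2.2)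

theorem Lq4_mem : Lq 4 ∈ TT := by
  have h1 : ev [4] = Lq 4 := by
    change prodA Lq [4] = _
    rw [prodA_cons, prodA_nil, one_mul]
  rw [← h1, ev_eq w_e_eq]
  exact ev_mem_TT _ (by decide +kernel)

theorem TT_eq : TT = HH := by
  refine le_antisymm TT_le ?_
  have hE : ∀ c, c < 10 → iota (EQ c) ∈ TT := by
    intro c hc
    rw [iota_E c hc]
    by_cases h4 : c = 4
    · rw [h4]
      exact Lq4_mem
    by_cases h9 : c = 9
    · have h2 : invQ 4 = 9 := rfl
      rw [h9, ← h2, Lq_inv 4 (by norm_num)]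
      exact TT.inv_mem Lq4_mem
    exact Lq_mem c hc h4 h9
  have h1 : (⊤ : Subgroup Q) ≤ TT.comap iota := by
    rw [← Cols.closure_E (K := Cfsg.Agent.Lib.DCE.Ly.H.Rels.K) (R := Cfsg.Agent.Lib.DCE.Ly.H.Rels.Rel)
      Cfsg.Agent.Lib.DCE.Ly.H.Rels.valid, Subgroup.closure_le]
    rintro _ ⟨c, hc, rfl⟩
    exact hE c hc
  rintro _ ⟨q, rfl⟩
  exact h1 (Subgroup.mem_top q)

theorem index_TT : TT.index = 8835156 := by
  rw [TT_eq, index_HH]

/-- The subgroup on the four letters is `G₂(5)`. -/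
theorem equiv_TT : Nonempty (TT ≃* Cfsg.Lie.chevG2.group Cfsg.Agent.Lib.DCE.Ly.H.Tgt.F5) := by
  obtain ⟨e, _⟩ := Cfsg.Agent.Lib.DCE.Ly.H.Tgt.equiv_T
  exact ⟨(MulEquiv.subgroupCongr TT_eq).trans ((MonoidHom.ofInjective iota_inj).symm.trans e)⟩

end Cfsg.Agent.Lib.DCE.Ly.Final
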